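import Groth.Prelude.Def_W4c5normfunctorschNorm
import Mathlib.RingTheory.IsTensorProduct
import Mathlib.RingTheory.Norm.Basic

/-!
# The norm commutes with base change, through divided powers
-/

set_option autoImplicit false
set_option linter.unusedSectionVars false

universe u

open scoped TensorProduct

namespace Groth.Agent.Norm15

variable {R R' Q Q' : Type u} [CommRing R] [CommRing R'] [Algebra R R']
    [CommRing Q] [Algebra R Q] [CommRing Q'] [Algebra R Q'] [Algebra Q Q'] [Algebra R' Q']
    [IsScalarTower R Q Q'] [IsScalarTower R R' Q'] [Algebra.IsPushout R R' Q Q']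
    (P : Type u) [CommRing P] [Algebra R P] [Algebra Q P] [IsScalarTower R Q P]

theorem bcAlong_tmul {X Y : Type u} [AddCommGroup X] [Module R X] [AddCommGroup Y] [Module R Y] [Module Q Y]
    [IsScalarTower R Q Y] (g : X →ₗ[R] Y) (p : P) (x : X) : PolLaw.bcAlong g P (p ⊗ₜ[R] x) = p ⊗ₜ[Q] g x := by
  simp [PolLaw.bcAlong]

/-- The comparison of base changes as an algebra map. -/
noncomputable def bcAlg : P ⊗[R] R' →ₐ[P] P ⊗[Q] Q' :=
  Algebra.TensorProduct.lift (Algebra.ofId P _)
    ((Algebra.TensorProduct.includeRight (R := Q) (A := P) (B := Q')).restrictScalars R |>.comp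
      (IsScalarTower.toAlgHom R R' Q')) fun _ _ => Commute.all _ _

theorem bcAlg_eq (z : P ⊗[R] R') :
    bcAlg (Q := Q) (Q' := Q') P z = PolLaw.bcAlong (IsScalarTower.toAlgHom R R' Q').toLinearMap P z := by
  induction z using TensorProduct.induction_on with
  | zero => simp
  | tmul p x => simp [bcAlg, bcAlong_tmul, Algebra.ofId_apply, Algebra.TensorProduct.algebraMap_apply]
  | add a b ha hb => simp only [map_add, ha, hb]

theorem bcAlg_bijective : Function.Bijective (bcAlg (R := R) (R' := R') (Q := Q) (Q' := Q') P) := by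
  have h : IsBaseChange Q (IsScalarTower.toAlgHom R R' Q').toLinearMap := (Algebra.IsPushout.symm (R := R) (S := R') (R' := Q) (S' := Q') inferInstance).out
  have key : ⇑(bcAlg (R := R) (R' := R') (Q := Q) (Q' := Q') P) =
      ⇑(LinearEquiv.lTensor P h.equiv) ∘
        ⇑(TensorProduct.AlgebraTensorModule.cancelBaseChange R Q P P R').symm := by
    funext z
    induction z using TensorProduct.induction_on with
    | zero => simp
    | tmul p x =>
      simp only [Function.comp_apply, TensorProduct.AlgebraTensorModule.cancelBaseChange_symm_tmul,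
        LinearEquiv.lTensor_tmul]
      rw [bcAlg_eq, bcAlong_tmul, h.equiv_tmul, one_smul]
    | add a b ha hb =>
      simp only [Function.comp_apply] at ha hb ⊢
      simp only [map_add, ha, hb]
  rw [key]
  exact (LinearEquiv.bijective _).comp (LinearEquiv.bijective _)

theorem norm_bc (z : P ⊗[R] R') :
    Algebra.norm P (PolLaw.bcAlong (IsScalarTower.toAlgHom R R' Q').toLinearMap P z : P ⊗[Q] Q') =
      Algebra.norm P z := by
  rw [← bcAlg_eq]
  exact Algebra.norm_eq_of_algEquiv (AlgEquiv.ofBijective _ (bcAlg_bijective (R := R) (R' := R') (Q := Q) (Q' := Q') P)) z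

section Ev

variable {C : Type u} [CommRing C] [Algebra R C]

/-- `p ⊗ c ↦ p · h c`. -/
noncomputable def ev (h : C →ₐ[R] Q) : P ⊗[R] C →ₐ[P] P :=
  Algebra.TensorProduct.lift (AlgHom.id P P) ((IsScalarTower.toAlgHom R Q P).comp h) fun _ _ => Commute.all _ _

theorem ev_eq (h : C →ₐ[R] R) (w : P ⊗[R] C) :
    ev (Q := Q) P ((Algebra.ofId R Q).comp h) w = Algebra.TensorProduct.rid R P P (h.toLinearMap.lTensor P w) := by
  induction w using TensorProduct.induction_on with
  | zero => simp
  | tmul p c =>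
    simp [ev, Algebra.smul_def, ← IsScalarTower.algebraMap_apply R Q P, mul_comm]
  | add a b ha hb => simp only [map_add, ha, hb]

end Ev

variable [Module.Free R R'] [Module.Finite R R'] [Module.Free Q Q'] [Module.Finite Q Q']
    (d : ℕ) (hd : Module.finrank R R' = d) (hd' : Module.finrank Q Q' = d)
    {C : Type u} [CommRing C] [Algebra R C] (γ : PolLaw.MulLaw R R' C d) (hγ : PolLaw.IsGammaD γ)
    (π : C →ₐ[R] R) (hπ : PolLaw.MulLaw.postcomp π γ = PolLaw.normLaw R R' d hd)
    {C' : Type u} [CommRing C'] [Algebra R C'] [Algebra Q C'] [IsScalarTower R Q C']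
    (γ' : PolLaw.MulLaw Q Q' C' d)
    (π' : C' →ₐ[Q] Q) (hπ' : PolLaw.MulLaw.postcomp π' γ' = PolLaw.normLaw Q Q' d hd')
    (θ : C →ₐ[R] C')
    (hθ : ∀ (P : Type u) [CommRing P] [Algebra R P] [Algebra Q P] [IsScalarTower R Q P] (z : P ⊗[R] R'),
      γ'.law.toFun' P (PolLaw.bcAlong (IsScalarTower.toAlgHom R R' Q').toLinearMap P z) =
        PolLaw.bcAlong θ.toLinearMap P (γ.law.toFun' P z))

include hπ hπ' hθ in
theorem ev_gamma (z : P ⊗[R] R') :
    ev P ((π'.restrictScalars R).comp θ) (γ.law.toFun' P z) = ev P ((Algebra.ofId R Q).comp π) (γ.law.toFun' P z) := by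
  rw [ev_eq]
  have h1 : π.toLinearMap.lTensor P (γ.law.toFun' P z) = Algebra.norm P z ⊗ₜ[R] (1 : R) :=
    (congrArg (fun F : PolLaw.MulLaw R R' R d => F.law.toFun' P z) hπ).trans (PolLaw.normLaw_apply R R' d hd P z)
  have h2 : π'.toLinearMap.lTensor P (PolLaw.bcAlong θ.toLinearMap P (γ.law.toFun' P z)) =
      Algebra.norm P z ⊗ₜ[Q] (1 : Q) := by
    rw [← hθ P z, ← norm_bc (R := R) (R' := R') (Q := Q) (Q' := Q') P z]
    exact (congrArg (fun F : PolLaw.MulLaw Q Q' Q d => F.law.toFun' P _) hπ').trans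
      (PolLaw.normLaw_apply Q Q' d hd' P _)
  have key : ∀ w, ev P ((π'.restrictScalars R).comp θ) w =
      Algebra.TensorProduct.rid Q P P (π'.toLinearMap.lTensor P (PolLaw.bcAlong θ.toLinearMap P w)) := by
    intro w
    induction w using TensorProduct.induction_on with
    | zero => simp
    | tmul p c => simp [ev, bcAlong_tmul, Algebra.smul_def, mul_comm]
    | add a b ha hb => simp only [map_add, ha, hb]
  rw [key, h1, h2]
  simp

include hγ hπ hπ' hθ in
theorem norm_comm (c : C) : π' (θ c) = algebraMap R Q (π c) := by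
  let f : C →ₐ[R] Q := (π'.restrictScalars R).comp θ
  let g : C →ₐ[R] Q := (Algebra.ofId R Q).comp π
  suffices h : PolLaw.postcomp f.toLinearMap γ.law = PolLaw.postcomp g.toLinearMap γ.law by
    obtain ⟨φ, -, huniq⟩ := hγ Q (PolLaw.MulLaw.postcomp g γ)
    exact DFunLike.congr_fun ((huniq f h).trans (huniq g rfl).symm) c
  refine PolynomialLaw.ext ?_
  funext S _ _ x
  show f.toLinearMap.lTensor S (γ.law.toFun' S x) = g.toLinearMap.lTensor S (γ.law.toFun' S x)
  let ι : S →ₐ[R] Q ⊗[R] S := Algebra.TensorProduct.includeRight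
  have hz : γ.law.toFun' (Q ⊗[R] S) (ι.toLinearMap.rTensor R' x) = ι.toLinearMap.rTensor C (γ.law.toFun' S x) :=
    (congrFun (γ.law.isCompat' ι) x).symm
  have h := ev_gamma (R := R) (R' := R') (Q := Q) (Q' := Q') (Q ⊗[R] S) d hd hd' γ π hπ γ' π' hπ' θ hθ
    (ι.toLinearMap.rTensor R' x)
  rw [hz] at h
  have key : ∀ (e : C →ₐ[R] Q) (w : S ⊗[R] C), ev (Q ⊗[R] S) e (ι.toLinearMap.rTensor C w) =
      TensorProduct.comm R S Q (e.toLinearMap.lTensor S w) := by
    intro e w
    induction w using TensorProduct.induction_on with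
    | zero => simp
    | tmul s c =>
      simp [ev, ι, Algebra.TensorProduct.algebraMap_apply, Algebra.TensorProduct.tmul_mul_tmul]
    | add a b ha hb => simp only [map_add, ha, hb]
  rw [key, key] at h
  exact (TensorProduct.comm R S Q).injective h

end Groth.Agent.Norm15
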